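import Groth.Prelude.Def_NonAbH2
import Mathlib

/-!
# Torsors under infinitesimal groups: rational points descend along separable extensions
-/

set_option autoImplicit false
set_option backward.isDefEq.respectTransparency false
universe u

open CategoryTheory CategoryTheory.Limits MonoidalCategory CartesianMonoidalCategory MonObj AlgebraicGeometry TensorProduct

noncomputable section

namespace Groth.Agent.InfTorsorLib

variable {k : Type u} [Field k] {I E : Over (Spec (CommRingCat.of k))} [GrpObj I]

/-- A finite group scheme with one point has only the trivial point with values in a field. -/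
theorem eq_one_of_field [IsFinite I.hom] [Subsingleton I.left] {T : Over (Spec (CommRingCat.of k))} {K : Type u}
    [Field K] (e : T.left ≅ Spec (CommRingCat.of K)) (g : T ⟶ I) : g = 1 := by
  haveI : IsAffine I.left := isAffine_of_isAffineHom I.hom
  haveI : IsAffine T.left := IsAffine.of_isIso e.hom
  haveI : _root_.IsReduced Γ(T.left, ⊤) := by
    haveI : AlgebraicGeometry.IsReduced T.left := isReduced_of_isOpenImmersion e.hom
    infer_instance
  refine Over.OverMorphism.ext (ext_of_isAffine ?_)
  refine CommRingCat.hom_ext (RingHom.ext fun a => ?_)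
  let ε : Γ(I.left, ⊤) →+* Γ(Spec (CommRingCat.of k), ⊤) := η[I].left.appTop.hom
  let s : Γ(Spec (CommRingCat.of k), ⊤) →+* Γ(I.left, ⊤) := I.hom.appTop.hom
  have hεs : ∀ c, ε (s c) = c := fun c => by
    have h := congrArg (fun t : (𝟙_ (Over (Spec (CommRingCat.of k)))).left ⟶ Spec (CommRingCat.of k) =>
      t.appTop.hom c) (Over.w η[I])
    simp only [Scheme.Hom.comp_appTop, CommRingCat.comp_apply] at h
    exact h
  have hnil : IsNilpotent (a - s (ε a)) := by
    haveI : IsDomain Γ(Spec (CommRingCat.of k), ⊤) :=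
      (Scheme.ΓSpecIso (CommRingCat.of k)).commRingCatIsoToRingEquiv.toMulEquiv.isDomain k
    haveI : Subsingleton (PrimeSpectrum Γ(I.left, ⊤)) :=
      (Scheme.homeoOfIso I.left.isoSpec).symm.injective.subsingleton
    rw [← mem_nilradical, nilradical_eq_sInf, Submodule.mem_sInf]
    intro J hJ
    have hker : (RingHom.ker ε).IsPrime := RingHom.ker_isPrime ε
    have := congrArg PrimeSpectrum.asIdeal
      (Subsingleton.elim (⟨J, hJ⟩ : PrimeSpectrum Γ(I.left, ⊤)) ⟨RingHom.ker ε, hker⟩)
    rw [show J = RingHom.ker ε from this, RingHom.mem_ker, map_sub, hεs]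
    exact sub_self _
  have key : ∀ h : T ⟶ I, h.left.appTop.hom a = T.hom.appTop.hom (ε a) := fun h => by
    have h0 : h.left.appTop.hom (a - s (ε a)) = 0 := (hnil.map h.left.appTop.hom).eq_zero
    rw [map_sub, sub_eq_zero] at h0
    rw [h0]
    exact congrArg (fun t : T.left ⟶ Spec (CommRingCat.of k) => t.appTop.hom (ε a)) (Over.w h)
  exact (key g).trans (key 1).symm

/-- A torsor under such a group has at most one point with values in a field. -/
theorem eq_of_field [IsFinite I.hom] [Subsingleton I.left] {a : AlgGrp.Action I E}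
    (ha : NonAbH1.IsPseudoTorsorSch a) {T : Over (Spec (CommRingCat.of k))} {K : Type u}
    [Field K] (e : T.left ≅ Spec (CommRingCat.of K)) (x y : T ⟶ E) : x = y := by
  haveI : IsIso (lift a.act (snd I E)) := ha
  let z : T ⟶ I ⊗ E := lift x y ≫ inv (lift a.act (snd I E))
  have hz : z ≫ lift a.act (snd I E) = lift x y :=
    (Category.assoc _ _ _).trans (by rw [IsIso.inv_hom_id, Category.comp_id])
  have h1 := congrArg (· ≫ fst E E) hz
  have h2 := congrArg (· ≫ snd E E) hz
  simp only [Category.assoc, lift_fst, lift_snd] at h1 h2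
  have hg : z ≫ fst I E = 1 := eq_one_of_field e _
  have hz' : z = lift (toUnit T) y ≫ η[I] ▷ E := by
    refine CartesianMonoidalCategory.hom_ext _ _ ?_ ?_
    · rw [hg, Category.assoc, whiskerRight_fst, lift_fst_assoc]; rfl
    · rw [h2, Category.assoc, whiskerRight_snd, lift_snd]
  rw [← h1, hz', Category.assoc, a.one_act, leftUnitor_hom, lift_snd]

theorem exists_eq_algebraMap {L : Type u} [Field L] [Algebra k L] (a : L)
    (h : a ⊗ₜ[k] (1 : L) = (1 : L) ⊗ₜ[k] a) : ∃ c : k, algebraMap k L c = a := by
  obtain ⟨φ, hφ⟩ : ∃ φ : L →ₗ[k] k, φ 1 = 1 := by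
    obtain ⟨φ, hφ⟩ := LinearMap.exists_leftInverse_of_injective (Algebra.linearMap k L)
      (LinearMap.ker_eq_bot.2 (algebraMap k L).injective)
    exact ⟨φ, by simpa using LinearMap.congr_fun hφ 1⟩
  have := congrArg ((TensorProduct.rid k L).toLinearMap ∘ₗ φ.lTensor L) h
  simp [hφ] at this
  exact ⟨φ a, by rw [Algebra.algebraMap_eq_smul_one]; exact this.symm⟩

/-- A point over a separable extension gives a rational point. -/
theorem exists_section [IsFinite I.hom] [Subsingleton I.left] {a : AlgGrp.Action I E}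
    (ha : NonAbH1.IsPseudoTorsorSch a) (L : Type u) [Field L] [Algebra k L] [_root_.IsReduced (L ⊗[k] L)]
    (hL : NonAbH1.HasSectionOver E (Spec.map (CommRingCat.ofHom (algebraMap k L)))) :
    NonAbH1.HasSectionOver E (𝟙 (Spec (CommRingCat.of k))) := by
  obtain ⟨f, hf⟩ := hL
  obtain ⟨⟨e, ψ⟩, rfl⟩ := (Scheme.SpecToEquivOfField L E.left).symm.surjective f
  change (Spec.map ψ ≫ E.left.fromSpecResidueField e) ≫ E.hom = _ at hf
  have hrange : ∀ c : E.left.residueField e, ∃ d : k, algebraMap k L d = ψ.hom c := by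
    intro c
    refine exists_eq_algebraMap _ (sub_eq_zero.1 ((IsReduced.eq_zero _ ?_)))
    rw [← mem_nilradical, nilradical_eq_sInf, Submodule.mem_sInf]
    intro J hJ
    haveI : Ideal.IsPrime J := hJ
    let q : L ⊗[k] L →+* Ideal.ResidueField J := algebraMap _ _
    let j₁ : CommRingCat.of L ⟶ CommRingCat.of (Ideal.ResidueField J) :=
      CommRingCat.ofHom (q.comp Algebra.TensorProduct.includeLeftRingHom)
    let j₂ : CommRingCat.of L ⟶ CommRingCat.of (Ideal.ResidueField J) :=
      CommRingCat.ofHom (q.comp (Algebra.TensorProduct.includeRight (R := k) (A := L) (B := L)).toRingHom)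
    have hj : CommRingCat.ofHom (algebraMap k L) ≫ j₁ = CommRingCat.ofHom (algebraMap k L) ≫ j₂ := by
      ext r
      show q (algebraMap k L r ⊗ₜ[k] (1 : L)) = q ((1 : L) ⊗ₜ[k] algebraMap k L r)
      exact congrArg q ((Algebra.TensorProduct.algebraMap_apply (S := k) (A := L) (B := L) r).symm.trans
        (Algebra.TensorProduct.algebraMap_apply' r))
    let T : Over (Spec (CommRingCat.of k)) := Over.mk (Spec.map j₁ ≫ Spec.map (CommRingCat.ofHom (algebraMap k L)))
    let x : T ⟶ E := Over.homMk (Spec.map j₁ ≫ Spec.map ψ ≫ E.left.fromSpecResidueField e) (by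
      rw [Category.assoc, hf]; rfl)
    let y : T ⟶ E := Over.homMk (Spec.map j₂ ≫ Spec.map ψ ≫ E.left.fromSpecResidueField e) (by
      rw [Category.assoc, hf]
      show Spec.map j₂ ≫ _ = Spec.map j₁ ≫ _
      rw [← Spec.map_comp, ← Spec.map_comp, hj])
    have hxy := congrArg CommaMorphism.left (eq_of_field ha (T := T) (K := (Ideal.ResidueField J)) (Iso.refl _) x y)
    change Spec.map j₁ ≫ Spec.map ψ ≫ _ = Spec.map j₂ ≫ Spec.map ψ ≫ _ at hxy
    rw [← Category.assoc, ← Category.assoc, cancel_mono, ← Spec.map_comp, ← Spec.map_comp] at hxy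
    have hc : q (ψ.hom c ⊗ₜ[k] (1 : L)) = q ((1 : L) ⊗ₜ[k] ψ.hom c) :=
      congrArg (fun t => t.hom c) (Spec.map_injective hxy)
    rw [← Ideal.algebraMap_residueField_eq_zero, map_sub]
    exact sub_eq_zero.2 hc
  choose d hd using hrange
  let χ : E.left.residueField e →+* k :=
    { toFun := d
      map_one' := (algebraMap k L).injective (by rw [hd, map_one, map_one])
      map_mul' := fun x y => (algebraMap k L).injective (by rw [hd, map_mul, map_mul, hd, hd])
      map_zero' := (algebraMap k L).injective (by rw [hd, map_zero, map_zero])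
      map_add' := fun x y => (algebraMap k L).injective (by rw [hd, map_add, map_add, hd, hd]) }
  have hψ : CommRingCat.ofHom χ ≫ CommRingCat.ofHom (algebraMap k L) = ψ := CommRingCat.hom_ext (RingHom.ext hd)
  refine ⟨Spec.map (CommRingCat.ofHom χ) ≫ E.left.fromSpecResidueField e, ?_⟩
  obtain ⟨r, hr⟩ := Spec.map_surjective ((Spec.map (CommRingCat.ofHom χ) ≫ E.left.fromSpecResidueField e) ≫ E.hom)
  rw [← hψ, Spec.map_comp, Category.assoc, Category.assoc,
    show Spec.map (CommRingCat.ofHom χ) ≫ E.left.fromSpecResidueField e ≫ E.hom = Spec.map r by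
      rw [hr, Category.assoc], ← Spec.map_comp] at hf
  rw [← hr, ← Spec.map_id]
  congr 1
  ext c
  exact (algebraMap k L).injective (congrArg (fun t => t.hom c) (Spec.map_injective hf))

end Groth.Agent.InfTorsorLib
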